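import Groth.Agent.Sga7.H592.SncFin
import Groth.Agent.Models.RMSing
import Groth.Prelude.Def_Curve

/-!
# Finiteness of the non strict-normal-crossings points, for regular proper models of smooth curves

* `finite_not_snc_isM` : for `RMStep.IsM f X p` with `X` regular
* `finite_not_snc_model` : for `Models.IsRegularProperModel R X p C f`
* `isSNCModel_iff` : `IsSNCModel p` iff the finite set of bad points is empty
-/

set_option autoImplicit false
universe u

open CategoryTheory CategoryTheory.Limits AlgebraicGeometry IsLocalRing Groth.Agent.Sga7.H744.Defs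
  Groth.Agent.Models Groth.Agent.Sga7.H592.SncFin

namespace Groth.Agent.Sga7.H592.SncFinM

variable {R : Type u} [CommRing R] [IsDomain R] [IsDiscreteValuationRing R]
  {C : Scheme.{u}} (f : C ⟶ Spec (CommRingCat.of (FractionRing R)))

/-- the set of bad points -/
def bad {X : Scheme.{u}} (p : X ⟶ Spec (CommRingCat.of R)) (ϖ : R) : Set X :=
  {x : X | p x = closedPoint R ∧ ¬ IsSNCElt (X.presheaf.stalk x) (stalkElt p x ϖ)}

omit [IsDomain R] [IsDiscreteValuationRing R] in
theorem stalkElt_unit_mul {X : Scheme.{u}} (p : X ⟶ Spec (CommRingCat.of R)) (x : X) (v : Rˣ) (ϖ : R)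
    (h : IsSNCElt (X.presheaf.stalk x) (stalkElt p x ϖ)) :
    IsSNCElt (X.presheaf.stalk x) (stalkElt p x (v * ϖ)) := by
  rw [map_mul]
  exact SncAlg.isSNCElt_unit_mul (Units.map (stalkElt p x).toMonoidHom v) h

/-- The closed fibre is an SNC divisor iff there is no bad point (for one uniformizer). -/
theorem isSNCModel_iff {X : Scheme.{u}} (p : X ⟶ Spec (CommRingCat.of R)) (ϖ : R) (hϖ : Irreducible ϖ) :
    IsSNCModel p ↔ bad p ϖ = ∅ := by
  constructor
  · intro h
    rw [Set.eq_empty_iff_forall_notMem]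
    rintro x ⟨hx, hn⟩
    exact hn (h x hx ϖ hϖ)
  · intro h x hx ϖ' hϖ'
    obtain ⟨v, hv⟩ := IsDiscreteValuationRing.associated_of_irreducible R hϖ hϖ'
    rw [← hv, mul_comm]
    apply stalkElt_unit_mul
    by_contra hn
    exact (Set.eq_empty_iff_forall_notMem.1 h x) ⟨hx, hn⟩

/-- the bad set does not depend on the uniformizer -/
theorem bad_eq {X : Scheme.{u}} (p : X ⟶ Spec (CommRingCat.of R)) (ϖ ϖ' : R) (hϖ : Irreducible ϖ)
    (hϖ' : Irreducible ϖ') : bad p ϖ = bad p ϖ' := by
  obtain ⟨v, rfl⟩ := IsDiscreteValuationRing.associated_of_irreducible R hϖ hϖ'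
  ext x
  constructor
  · rintro ⟨hx, hn⟩
    refine ⟨hx, fun h => hn ?_⟩
    have h1 := stalkElt_unit_mul p x v⁻¹ _ h
    rwa [mul_comm ϖ, Units.inv_mul_cancel_left] at h1
  · rintro ⟨hx, hn⟩
    refine ⟨hx, fun h => hn ?_⟩
    rw [mul_comm]
    exact stalkElt_unit_mul p x v _ h

theorem ringKrullDim_C_le_one {K : Type u} [Field K] {C : Scheme.{u}} {f : C ⟶ Spec (CommRingCat.of K)}
    (hC : Curve.IsSmoothProperCurve K C f) (c : C) : ringKrullDim (C.presheaf.stalk c) ≤ 1 := by
  have := Models2.CodimStalk.ringKrullDim_stalk_le C c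
  rw [hC.2.2.2] at this
  exact this

theorem finite_not_snc_isM {X : Scheme.{u}} {p : X ⟶ Spec (CommRingCat.of R)} (hX : RMStep.IsM f X p)
    (hreg : ∀ x : X, IsRegularLocalRing (X.presheaf.stalk x))
    (hdim : ∀ c : C, ringKrullDim (C.presheaf.stalk c) ≤ 1) (ϖ : R) (hϖ : Irreducible ϖ) :
    (bad p ϖ).Finite := by
  have h1 := hX.proper
  have h2 := hX.flat
  exact finite_not_snc_of p (fun x _ => hreg x) (RMSing.ringKrullDim_stalk_le_two f hX hdim) ϖ hϖ

theorem ringKrullDim_stalk_le_two {X : Scheme.{u}} {p : X ⟶ Spec (CommRingCat.of R)}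
    (hX : Models.IsRegularProperModel R X p C f)
    (hdim : ∀ c : C, ringKrullDim (C.presheaf.stalk c) ≤ 1) (x : X) :
    ringKrullDim (X.presheaf.stalk x) ≤ 2 := by
  obtain ⟨⟨hflat, hlft, hqc, g, hg⟩, hprop, hregX⟩ := hX
  have hgen : ∀ y : X, p y ≠ closedPoint R → ringKrullDim (X.presheaf.stalk y) ≤ 1 := by
    intro y hy
    have hi := DVRGeneric.isOpenImmersion_generic R (FractionRing R)
    have hgo := DVRGeneric.isOpenImmersion_of_isPullback hg
    have hr := DVRGeneric.opensRange_eq_of_isPullback hg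
    have hxr : y ∈ g.opensRange := by
      rw [hr]
      exact DVRGeneric.range_generic R (FractionRing R) (p y) hy
    obtain ⟨c, rfl⟩ := hxr
    rw [ringKrullDim_eq_of_ringEquiv (asIso (g.stalkMap c)).commRingCatIsoToRingEquiv]
    exact hdim c
  by_cases hx : p x = closedPoint R
  · have hln : IsLocallyNoetherian X := LocallyOfFiniteType.isLocallyNoetherian p
    obtain ⟨ϖ, hϖ⟩ := IsDiscreteValuationRing.exists_irreducible R
    have hNoeth : IsNoetherianRing (X.presheaf.stalk x) := inferInstance
    have hreg := hregX x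
    have hdom : IsDomain (X.presheaf.stalk x) := CalgA.RegBasic.isDomain _
    let ρ : CommRingCat.of R ⟶ X.presheaf.stalk x := Spec.preimage (X.fromSpecStalk x ≫ p)
    have hρ : Spec.map ρ = X.fromSpecStalk x ≫ p := Spec.map_preimage _
    have hmem : ∀ (q : Spec (X.presheaf.stalk x)) (r : R),
        r ∈ (p (X.fromSpecStalk x q)).asIdeal ↔ ρ.hom r ∈ q.asIdeal := by
      intro q r
      have h1 : p (X.fromSpecStalk x q) = (Spec.map ρ) q := by rw [hρ]; rfl
      rw [h1]
      rfl
    have hρflat : ρ.hom.Flat := by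
      rw [← HasRingHomProperty.Spec_iff (P := @Flat), hρ]
      infer_instance
    refine RMSing.ringKrullDim_le_two (ρ.hom ϖ) ?_ ?_ ?_
    · intro h0
      let _ := ρ.hom.toAlgebra
      have hfl : Module.Flat R (X.presheaf.stalk x) := hρflat
      have h1 : IsSMulRegular R ϖ := by
        rw [isSMulRegular_iff_right_eq_zero_of_smul]
        intro y hy
        exact (mul_eq_zero.mp hy).resolve_left hϖ.ne_zero
      have h2 : IsSMulRegular (X.presheaf.stalk x) (algebraMap R (X.presheaf.stalk x) ϖ) := h1.of_flat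
      have h3 : (algebraMap R (X.presheaf.stalk x) ϖ) = 0 := h0
      rw [h3, isSMulRegular_iff_right_eq_zero_of_smul] at h2
      exact one_ne_zero (h2 1 (zero_smul _ _))
    · have h1 := (hmem (closedPoint (X.presheaf.stalk x)) ϖ).mp (by
        rw [Scheme.fromSpecStalk_closedPoint, hx]
        exact hϖ.not_isUnit)
      exact h1
    · intro q hq hπq
      have h1 := RMSing.height_le_ringKrullDim_stalk x (⟨q, hq⟩ : Spec (X.presheaf.stalk x))
      have h2 : p (X.fromSpecStalk x ⟨q, hq⟩) ≠ closedPoint R := by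
        intro he
        apply hπq
        apply (hmem ⟨q, hq⟩ ϖ).mp
        rw [he]
        exact hϖ.not_isUnit
      exact WithBot.coe_le_coe.mp (h1.trans (hgen _ h2))
  · exact (hgen x hx).trans (by norm_num)

/-- **Finiteness of the non strict-normal-crossings points of a regular proper model of a smooth curve.** -/
theorem finite_not_snc_model (hC : Curve.IsSmoothProperCurve (FractionRing R) C f)
    {X : Scheme.{u}} {p : X ⟶ Spec (CommRingCat.of R)}
    (hX : Models.IsRegularProperModel R X p C f) (ϖ : R) (hϖ : Irreducible ϖ) :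
    (bad p ϖ).Finite := by
  have h1 := hX.2.1
  have h2 := hX.1.1
  exact finite_not_snc_of p (fun x _ => hX.2.2 x)
    (ringKrullDim_stalk_le_two f hX (ringKrullDim_C_le_one hC)) ϖ hϖ

/-- A bad point is a closed point of `X` whose local ring is regular of dimension two. -/
theorem of_mem_bad {X : Scheme.{u}} {p : X ⟶ Spec (CommRingCat.of R)} [Flat p] [LocallyOfFiniteType p]
    (hreg : ∀ x : X, p x = closedPoint R → IsRegularLocalRing (X.presheaf.stalk x))
    (hdim : ∀ x : X, ringKrullDim (X.presheaf.stalk x) ≤ 2) (ϖ : R) (hϖ : Irreducible ϖ)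
    (x : X) (hx : x ∈ bad p ϖ) :
    IsClosed ({x} : Set X) ∧ ringKrullDim (X.presheaf.stalk x) = 2 := by
  have hln : IsLocallyNoetherian X := LocallyOfFiniteType.isLocallyNoetherian p
  have hr := hreg x hx.1
  have hdom : IsDomain (X.presheaf.stalk x) := CalgA.RegBasic.isDomain _
  have h2 : ringKrullDim (X.presheaf.stalk x) = 2 := by
    obtain ⟨d, hd⟩ := CalgA.RegBasic.ringKrullDim_eq_natCast (X.presheaf.stalk x)
    have hle := hdim x
    rw [hd] at hle ⊢
    have hle' : d ≤ 2 := by exact_mod_cast hle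
    by_contra hne
    have hne' : d ≠ 2 := fun he => hne (by rw [he]; rfl)
    -- dimension at most one: the ring is a field or a discrete valuation ring
    apply hx.2
    have hm : (stalkElt p x ϖ) ∈ maximalIdeal (X.presheaf.stalk x) := by
      rw [stalkElt_mem_iff, hx.1]
      exact hϖ.not_isUnit
    have hne0 : stalkElt p x ϖ ≠ 0 := by
      let ρ : CommRingCat.of R ⟶ X.presheaf.stalk x := CommRingCat.ofHom (stalkElt p x)
      intro h0
      obtain ⟨U, hU, hxU⟩ : ∃ U : X.Opens, IsAffineOpen U ∧ x ∈ U := by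
        obtain ⟨_, ⟨U, hU, rfl⟩, hxU, -⟩ :=
          X.isBasis_affineOpens.exists_subset_of_mem_open (Set.mem_univ x) isOpen_univ
        exact ⟨U, hU, hxU⟩
      let _ : Algebra Γ(X, U) (X.presheaf.stalk x) := X.presheaf.algebra_section_stalk ⟨x, hxU⟩
      have hloc := hU.isLocalization_stalk ⟨x, hxU⟩
      have hf1 : (secMap p U).Flat := secMap_flat p U hU
      have hf2 : (algebraMap Γ(X, U) (X.presheaf.stalk x)).Flat :=
        IsLocalization.flat (X.presheaf.stalk x) (hU.primeIdealOf ⟨x, hxU⟩).asIdeal.primeCompl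
      have hf3 : ((algebraMap Γ(X, U) (X.presheaf.stalk x)).comp (secMap p U)).Flat := RingHom.Flat.comp hf1 hf2
      have hf4 : (stalkElt p x).Flat := by
        have : (algebraMap Γ(X, U) (X.presheaf.stalk x)).comp (secMap p U) = stalkElt p x := by
          ext r
          exact germ_secMap p U x hxU r
        rwa [this] at hf3
      let _ := (stalkElt p x).toAlgebra
      have hfl : Module.Flat R (X.presheaf.stalk x) := hf4
      have h1 : IsSMulRegular R ϖ := by
        rw [isSMulRegular_iff_right_eq_zero_of_smul]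
        intro y hy
        exact (mul_eq_zero.mp hy).resolve_left hϖ.ne_zero
      have h2 : IsSMulRegular (X.presheaf.stalk x) (algebraMap R (X.presheaf.stalk x) ϖ) := h1.of_flat
      have h3 : (algebraMap R (X.presheaf.stalk x) ϖ) = 0 := h0
      rw [h3, isSMulRegular_iff_right_eq_zero_of_smul] at h2
      exact one_ne_zero (h2 1 (zero_smul _ _))
    have hd1 : d ≤ 1 := by omega
    -- the maximal ideal is the only prime over `ϖ`
    have hprime : ∀ Q : Ideal (X.presheaf.stalk x), Q.IsPrime → stalkElt p x ϖ ∈ Q →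
        Q = maximalIdeal (X.presheaf.stalk x) := by
      intro Q hQ hQm
      by_contra hQne
      have hlt : Q < maximalIdeal (X.presheaf.stalk x) := lt_of_le_of_ne (le_maximalIdeal hQ.ne_top) hQne
      have hb : (⊥ : Ideal (X.presheaf.stalk x)) < Q := bot_lt_iff_ne_bot.2 (fun h => hne0 (by
        rw [h] at hQm
        exact (Submodule.mem_bot _).1 hQm))
      have h1 := Ideal.height_add_one_le_of_lt_of_isPrime hlt
      have h2 := Ideal.height_add_one_le_of_lt_of_isPrime hb
      have h3 : (2 : ℕ∞) ≤ (maximalIdeal (X.presheaf.stalk x)).height := by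
        calc (2 : ℕ∞) = 0 + 1 + 1 := by norm_num
          _ ≤ (⊥ : Ideal (X.presheaf.stalk x)).height + 1 + 1 := by gcongr; exact bot_le
          _ ≤ Q.height + 1 := by gcongr
          _ ≤ _ := h1
      have h4 : ((maximalIdeal (X.presheaf.stalk x)).height : WithBot ℕ∞) = d := by
        rw [IsLocalRing.maximalIdeal_height_eq_ringKrullDim, hd]
      have h5 : (2 : WithBot ℕ∞) ≤ ((maximalIdeal (X.presheaf.stalk x)).height : WithBot ℕ∞) :=
        WithBot.coe_le_coe.mpr h3
      rw [h4] at h5
      have h6 : 2 ≤ d := by exact_mod_cast h5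
      omega
    have hregm : IsRegularLocalRing (X.presheaf.stalk x ⧸ maximalIdeal (X.presheaf.stalk x)) := by
      let _ := Ideal.Quotient.field (maximalIdeal (X.presheaf.stalk x))
      infer_instance
    refine SncAlg.isSNCElt_of_unique _ hne0 hm (maximalIdeal _) ?_ ?_
    · refine ⟨⟨inferInstance, (Ideal.span_singleton_le_iff_mem _).2 hm⟩, fun Q hQ _ => ?_⟩
      rw [hprime Q hQ.1 (hQ.2 (Ideal.mem_span_singleton_self _))]
    · intro Q hQ
      exact hprime Q hQ.1.1 (hQ.1.2 (Ideal.mem_span_singleton_self _))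
  refine ⟨?_, h2⟩
  rw [← closure_eq_iff_isClosed]
  apply subset_antisymm _ subset_closure
  intro y hy
  have hxy : x ⤳ y := specializes_iff_mem_closure.mpr hy
  by_contra hne
  have hyx : ¬ y ⤳ x := fun h => hne (hxy.antisymm h).symm.eq
  have h3 := Models2.CodimStalk.codim_lt X hxy hyx
  have h4 := hdim y
  rw [Models2.CodimStalk.coe_codim X y] at h4
  rw [Models2.CodimStalk.coe_codim X x] at h2
  have h4' : Models2.CodimStalk.codim X y ≤ 2 := by exact_mod_cast h4
  have h2' : Models2.CodimStalk.codim X x = 2 := by exact_mod_cast h2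
  omega

end Groth.Agent.Sga7.H592.SncFinM
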