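import Groth.Agent.Sga7.H744.Defs
import Groth.Agent.CalgA.RegBasic
import Groth.Prelude.Def_EGA4b
import Mathlib.RingTheory.Ideal.MinimalPrime.Localization
import Mathlib.RingTheory.Ideal.MinimalPrime.Noetherian
import Mathlib.RingTheory.UniqueFactorizationDomain.Multiplicity
import Mathlib.RingTheory.Ideal.KrullsHeightTheorem
import Mathlib.RingTheory.Spectrum.Prime.Noetherian
import Mathlib.RingTheory.Localization.Ideal

/-!
# Finiteness of the non strict-normal-crossings locus: commutative algebra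

`isSNCElt_of_unique`: `A` regular local, `t ≠ 0` a non-unit with exactly one prime `Q` minimal over `t` and
`A/Q` regular; then `t = u f ^ a` with `f ∈ 𝔪 ∖ 𝔪²`.

`finite_not_snc`: `B` Noetherian with regular local rings of dimension at most two, `t` a nonzerodivisor,
such that the regular loci of the `B/q` (`q` minimal over `t`) are open; then there are only finitely many
primes `P ∋ t` at which `t` is not in strict normal crossings form.
-/

set_option autoImplicit false
universe u

open IsLocalRing Groth.Agent.Sga7.H744.Defs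

namespace Groth.Agent.Sga7.H592.SncAlg

open Groth.Agent.CalgA

/-- `IsSNCElt` is invariant under ring isomorphisms. -/
theorem isSNCElt_of_ringEquiv {A B : Type u} [CommRing A] [IsLocalRing A] [CommRing B] [IsLocalRing B]
    (e : A ≃+* B) {t : A} (h : IsSNCElt A t) : IsSNCElt B (e t) := by
  obtain ⟨r, f, hf, a, u, ha, hli, ht⟩ := h
  have hm : ∀ x : A, x ∈ maximalIdeal A ↔ e x ∈ maximalIdeal B := by
    intro x
    rw [mem_maximalIdeal, mem_maximalIdeal, mem_nonunits_iff, mem_nonunits_iff, MulEquiv.isUnit_map]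
  refine ⟨r, fun i => e (f i), fun i => (hm _).1 (hf i), a, Units.map e.toRingHom.toMonoidHom u, ha, ?_, ?_⟩
  · -- transport the linear independence along the semilinear isomorphism
    rw [linearIndependent_iff'] at hli ⊢
    intro s g hg i hi
    have hloc : IsLocalHom e.symm.toRingHom := isLocalHom_of_leftInverse e.toRingHom (fun x => e.apply_symm_apply x)
    -- lift the coefficients
    choose c hc using fun i => IsLocalRing.residue_surjective (R := B) (g i)
    have h1 : ∑ i ∈ s, (residue A (e.symm (c i))) • (maximalIdeal A).toCotangent ⟨f i, hf i⟩ = 0 := by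
      have h2 : ∑ i ∈ s, c i • (maximalIdeal B).toCotangent ⟨e (f i), (hm _).1 (hf i)⟩ = 0 := by
        rw [← hg]
        refine Finset.sum_congr rfl fun i _ => ?_
        rw [← hc i]
        rfl
      have h3 : (maximalIdeal B).toCotangent (∑ i ∈ s, c i • (⟨e (f i), (hm _).1 (hf i)⟩ : maximalIdeal B)) = 0 := by
        rw [map_sum]
        simpa only [map_smul] using h2
      rw [Ideal.toCotangent_eq_zero] at h3
      have h4 : ∑ i ∈ s, c i * e (f i) ∈ maximalIdeal B ^ 2 := by
        have h5 : ((∑ i ∈ s, c i • (⟨e (f i), (hm _).1 (hf i)⟩ : maximalIdeal B) : maximalIdeal B) : B) =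
            ∑ i ∈ s, c i * e (f i) := by
          rw [AddSubmonoidClass.coe_finsetSum]
          rfl
        rwa [h5] at h3
      have h6 : ∑ i ∈ s, e.symm (c i) * f i ∈ maximalIdeal A ^ 2 := by
        have h7 : (maximalIdeal B ^ 2).map e.symm.toRingHom ≤ maximalIdeal A ^ 2 := by
          rw [Ideal.map_pow]
          refine Ideal.pow_right_mono ?_ 2
          rw [Ideal.map_le_iff_le_comap]
          intro x hx
          rw [Ideal.mem_comap, hm]
          change e (e.symm x) ∈ _
          rwa [e.apply_symm_apply]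
        have h8 := h7 (Ideal.mem_map_of_mem e.symm.toRingHom h4)
        have h9 : e.symm.toRingHom (∑ i ∈ s, c i * e (f i)) = ∑ i ∈ s, e.symm (c i) * f i := by
          rw [map_sum]
          refine Finset.sum_congr rfl fun i _ => ?_
          change e.symm (c i * e (f i)) = _
          rw [map_mul, e.symm_apply_apply]
        rwa [h9] at h8
      have h10 : (maximalIdeal A).toCotangent (∑ i ∈ s, e.symm (c i) • (⟨f i, hf i⟩ : maximalIdeal A)) = 0 := by
        rw [Ideal.toCotangent_eq_zero]
        have h5 : ((∑ i ∈ s, e.symm (c i) • (⟨f i, hf i⟩ : maximalIdeal A) : maximalIdeal A) : A) =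
            ∑ i ∈ s, e.symm (c i) * f i := by
          rw [AddSubmonoidClass.coe_finsetSum]
          rfl
        rwa [h5]
      rw [map_sum] at h10
      rw [← h10]
      refine Finset.sum_congr rfl fun i _ => ?_
      rw [map_smul]
      rfl
    have h11 := hli s _ h1 i hi
    rw [residue_eq_zero_iff] at h11
    rw [← hc i, residue_eq_zero_iff]
    have := (hm _).1 h11
    rwa [e.apply_symm_apply] at this
  · rw [ht, map_mul, map_prod]
    congr 1
    exact Finset.prod_congr rfl fun i _ => map_pow _ _ _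

theorem isSNCElt_iff_of_ringEquiv {A B : Type u} [CommRing A] [IsLocalRing A] [CommRing B] [IsLocalRing B]
    (e : A ≃+* B) (t : A) : IsSNCElt A t ↔ IsSNCElt B (e t) := by
  refine ⟨isSNCElt_of_ringEquiv e, fun h => ?_⟩
  have := isSNCElt_of_ringEquiv e.symm h
  rwa [e.symm_apply_apply] at this

/-- multiplying by a unit does not change the property -/
theorem isSNCElt_unit_mul {A : Type u} [CommRing A] [IsLocalRing A] (v : Aˣ) {t : A} (h : IsSNCElt A t) :
    IsSNCElt A (v * t) := by
  obtain ⟨r, f, hf, a, u, ha, hli, ht⟩ := h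
  refine ⟨r, f, hf, a, v * u, ha, hli, ?_⟩
  rw [ht, Units.val_mul, mul_assoc]

/-- `u * f ^ a` with `f ∈ 𝔪 ∖ 𝔪²` is in strict normal crossings form. -/
theorem isSNCElt_of_eq {A : Type u} [CommRing A] [IsLocalRing A] (f : A) (hf : f ∈ maximalIdeal A)
    (hf2 : f ∉ maximalIdeal A ^ 2) (a : ℕ) (ha : 1 ≤ a) (u : Aˣ) : IsSNCElt A (u * f ^ a) := by
  refine ⟨1, fun _ => f, fun _ => hf, fun _ => a, u, fun _ => ha, ?_, by simp⟩
  rw [linearIndependent_unique_iff]
  intro h0
  exact hf2 ((Ideal.toCotangent_eq_zero _ _).1 h0)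

/-- units are in strict normal crossings form -/
theorem isSNCElt_of_isUnit {A : Type u} [CommRing A] [IsLocalRing A] {t : A} (ht : IsUnit t) :
    IsSNCElt A t := by
  obtain ⟨u, rfl⟩ := ht
  exact ⟨0, Fin.elim0, fun i => i.elim0, Fin.elim0, u, fun i => i.elim0, linearIndependent_empty_type, by simp⟩

/-- A height one prime with regular quotient of a regular local ring is generated by an element of
`𝔪 ∖ 𝔪²`. -/
theorem exists_gen {A : Type u} [CommRing A] [IsRegularLocalRing A] (Q : Ideal A) [Q.IsPrime]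
    (hQ1 : Q.height ≤ 1) (hQ0 : Q ≠ ⊥) [IsRegularLocalRing (A ⧸ Q)] :
    ∃ f ∈ maximalIdeal A, f ∉ maximalIdeal A ^ 2 ∧ Q = Ideal.span {f} := by
  have hdom : IsDomain A := RegBasic.isDomain A
  obtain ⟨d, hd⟩ := RegBasic.ringKrullDim_eq_natCast A
  obtain ⟨x, c, hc, hx, hQ⟩ := RegBasic.exists_generators_of_quotient d hd Q
  have hc0 : c ≠ 0 := by
    rintro rfl
    apply hQ0
    rw [hQ]
    simp
  obtain ⟨e, rfl⟩ : ∃ e, d = e + 1 := ⟨d - 1, by omega⟩
  have hfQ : x 0 ∈ Q := by
    rw [hQ]
    refine Ideal.subset_span ⟨⟨0, by omega⟩, ?_⟩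
    congr 1
  have hf1 : x 0 ∈ maximalIdeal A := le_maximalIdeal (Ideal.IsPrime.ne_top ‹_›) hfQ
  have hf2 : x 0 ∉ maximalIdeal A ^ 2 := by
    refine RegBasic.notMem_sq_of_generators (x 0) (List.ofFn (fun i : Fin e => x i.succ)) ?_ ?_
    · rw [hd, List.length_ofFn]
    · rw [← List.ofFn_succ, ← hx]
      simp only [Ideal.ofList]
      congr 1
      ext y
      simp only [List.mem_ofFn, Set.mem_range, Set.mem_ofPred_eq]
  refine ⟨x 0, hf1, hf2, ?_⟩
  have hreg := (RegBasic.quotient_of_notMem_sq (x 0) hf1 hf2).1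
  have hdomq : IsDomain (A ⧸ Ideal.span {x 0}) := RegBasic.isDomain _
  have hprime : (Ideal.span {x 0}).IsPrime := (Ideal.Quotient.isDomain_iff_prime _).1 hdomq
  have hle : Ideal.span {x 0} ≤ Q := (Ideal.span_singleton_le_iff_mem _).2 hfQ
  have h0 : x 0 ≠ 0 := by
    intro h
    rw [h] at hf2
    exact hf2 (Ideal.zero_mem _)
  by_contra hne
  have hlt : Ideal.span {x 0} < Q := lt_of_le_of_ne hle (Ne.symm hne)
  have h1 := Ideal.height_add_one_le_of_lt_of_isPrime hlt
  have hbot : (⊥ : Ideal A) < Ideal.span {x 0} := bot_lt_iff_ne_bot.2 (fun h => h0 (Ideal.span_singleton_eq_bot.1 h))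
  have h2 := Ideal.height_add_one_le_of_lt_of_isPrime hbot
  have h3 : (2 : ℕ∞) ≤ Q.height := by
    calc (2 : ℕ∞) = 0 + 1 + 1 := by norm_num
      _ ≤ (⊥ : Ideal A).height + 1 + 1 := by gcongr; exact bot_le
      _ ≤ (Ideal.span {x 0}).height + 1 := by gcongr
      _ ≤ _ := h1
  exact absurd (h3.trans hQ1) (by norm_num)

/-- A nonzero nonunit of a regular local ring with exactly one minimal prime `Q` over it, `A/Q` regular, is in
strict normal crossings form. -/
theorem isSNCElt_of_unique {A : Type u} [CommRing A] [IsRegularLocalRing A] (t : A) (ht0 : t ≠ 0)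
    (htm : t ∈ maximalIdeal A) (Q : Ideal A) (hQ : Q ∈ (Ideal.span {t}).minimalPrimes)
    (huniq : ∀ Q' ∈ (Ideal.span {t}).minimalPrimes, Q' = Q) [IsRegularLocalRing (A ⧸ Q)] :
    IsSNCElt A t := by
  have hdom : IsDomain A := RegBasic.isDomain A
  have hQp : Q.IsPrime := hQ.1.1
  have htQ : t ∈ Q := hQ.1.2 (Ideal.mem_span_singleton_self t)
  have hh : Q.height ≤ 1 := Ideal.height_le_one_of_isPrincipal_of_mem_minimalPrimes (Ideal.span {t}) Q hQ
  have hQ0 : Q ≠ ⊥ := by
    rintro rfl
    exact ht0 ((Submodule.mem_bot _).1 htQ)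
  obtain ⟨f, hf, hf2, hQf⟩ := exists_gen Q hh hQ0
  have hf0 : f ≠ 0 := by
    rintro rfl
    exact hf2 (Ideal.zero_mem _)
  have hfp : Prime f := (Ideal.span_singleton_prime hf0).1 (hQf ▸ hQp)
  obtain ⟨n, v, hv, htv⟩ := WfDvdMonoid.max_power_factor ht0 hfp.irreducible
  have hvu : IsUnit v := by
    by_contra hvn
    have hvm : v ∈ maximalIdeal A := (mem_maximalIdeal v).2 hvn
    obtain ⟨P, hP, -⟩ := Ideal.exists_minimalPrimes_le (I := Ideal.span {v}) (J := maximalIdeal A)
      ((Ideal.span_singleton_le_iff_mem _).2 hvm)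
    have hPp : P.IsPrime := hP.1.1
    have hvP : v ∈ P := hP.1.2 (Ideal.mem_span_singleton_self v)
    have hPh : P.height ≤ 1 := Ideal.height_le_one_of_isPrincipal_of_mem_minimalPrimes (Ideal.span {v}) P hP
    have htP : t ∈ P := by rw [htv]; exact P.mul_mem_left _ hvP
    obtain ⟨P', hP', hP'P⟩ := Ideal.exists_minimalPrimes_le (I := Ideal.span {t}) (J := P)
      ((Ideal.span_singleton_le_iff_mem _).2 htP)
    have hP'Q := huniq P' hP'
    have hP'p : P'.IsPrime := hP'.1.1
    have hPP' : P' = P := by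
      by_contra hne
      have hlt : P' < P := lt_of_le_of_ne hP'P hne
      have h1 := Ideal.height_add_one_le_of_lt_of_isPrime hlt
      have hbot : (⊥ : Ideal A) < P' := bot_lt_iff_ne_bot.2 (fun h => by
        rw [hP'Q] at h
        exact hQ0 h)
      have h2 := Ideal.height_add_one_le_of_lt_of_isPrime hbot
      have h3 : (2 : ℕ∞) ≤ P.height := by
        calc (2 : ℕ∞) = 0 + 1 + 1 := by norm_num
          _ ≤ (⊥ : Ideal A).height + 1 + 1 := by gcongr; exact bot_le
          _ ≤ P'.height + 1 := by gcongr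
          _ ≤ _ := h1
      exact absurd (h3.trans hPh) (by norm_num)
    rw [← hPP', hP'Q, hQf, Ideal.mem_span_singleton] at hvP
    exact hv hvP
  obtain ⟨u, rfl⟩ := hvu
  have hn : 1 ≤ n := by
    by_contra hn
    have hn0 : n = 0 := by omega
    rw [hn0, pow_zero, one_mul] at htv
    rw [htv] at htm
    exact htm u.isUnit
  rw [htv, mul_comm]
  exact isSNCElt_of_eq f hf hf2 n hn u

theorem nonempty_quotient_equiv (A : Type u) [CommRing A] (J : Ideal A) (p : Ideal (A ⧸ J)) [hp : p.IsPrime] :
    Nonempty (Localization.AtPrime p ≃+* (Localization.AtPrime (p.comap (Ideal.Quotient.mk J)) ⧸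
      J.map (algebraMap A (Localization.AtPrime (p.comap (Ideal.Quotient.mk J)))))) := by
  let q : Ideal A := p.comap (Ideal.Quotient.mk J)
  have h3 : Algebra.algebraMapSubmonoid (A ⧸ J) q.primeCompl = p.primeCompl := by
    ext x
    obtain ⟨x, rfl⟩ := Ideal.Quotient.mk_surjective x
    constructor
    · rintro ⟨y, hy, hxy⟩
      intro hx
      have hxy' : Ideal.Quotient.mk J y = Ideal.Quotient.mk J x := hxy
      rw [← hxy'] at hx
      exact hy hx
    · intro hx
      exact ⟨x, hx, rfl⟩
  have h4 : IsLocalization.AtPrime (Localization.AtPrime q ⧸ J.map (algebraMap A (Localization.AtPrime q))) p := by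
    have : IsLocalization (Algebra.algebraMapSubmonoid (A ⧸ J) q.primeCompl)
      (Localization.AtPrime q ⧸ J.map (algebraMap A (Localization.AtPrime q))) := inferInstance
    rw [h3] at this
    exact this
  exact ⟨(IsLocalization.algEquiv p.primeCompl (Localization.AtPrime p)
    (Localization.AtPrime q ⧸ J.map (algebraMap A (Localization.AtPrime q)))).toRingEquiv⟩

/-- **Key lemma**: at a prime `P ∋ t` lying on exactly one component `V(q)` of `V(t)`, with `(B/q)_P` regular,
`t` is in strict normal crossings form. -/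
theorem isSNCElt_atPrime {B : Type u} [CommRing B] [IsNoetherianRing B] (t : B) (ht : t ∈ nonZeroDivisors B)
    (P : PrimeSpectrum B) (htP : t ∈ P.asIdeal) [IsRegularLocalRing (Localization.AtPrime P.asIdeal)]
    (q : Ideal B) (hq : q ∈ (Ideal.span {t}).minimalPrimes) (hqP : q ≤ P.asIdeal)
    (huniq : ∀ q' ∈ (Ideal.span {t}).minimalPrimes, q' ≤ P.asIdeal → q' = q)
    (p : PrimeSpectrum (B ⧸ q)) (hp : p.asIdeal.comap (Ideal.Quotient.mk q) = P.asIdeal)
    (hreg : p ∈ EGA4.regLocus (B ⧸ q)) :
    IsSNCElt (Localization.AtPrime P.asIdeal) (algebraMap B (Localization.AtPrime P.asIdeal) t) := by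
  obtain ⟨P, hPp⟩ := P
  dsimp only at *
  subst hp
  set P : Ideal B := p.asIdeal.comap (Ideal.Quotient.mk q) with hP
  set A := Localization.AtPrime P with hA
  obtain ⟨e⟩ := nonempty_quotient_equiv B q p.asIdeal
  set Q : Ideal A := q.map (algebraMap B A) with hQdef
  have hqp : q.IsPrime := hq.1.1
  have hdisj : Disjoint (P.primeCompl : Set B) (q : Set B) := by
    rw [Set.disjoint_left]
    intro x hx hxq
    exact hx (hqP hxq)
  have hQp : Q.IsPrime := IsLocalization.isPrime_of_isPrime_disjoint P.primeCompl A q hqp hdisj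
  have hQu : Q.under B = q := IsLocalization.under_map_of_isPrime_disjoint P.primeCompl A hqp hdisj
  have hregq : IsRegularLocalRing (Localization.AtPrime p.asIdeal) := hreg
  have hregQ : IsRegularLocalRing (A ⧸ Q) := IsRegularLocalRing.of_ringEquiv e
  have hmin : (Ideal.span {algebraMap B A t}).minimalPrimes = Ideal.under B ⁻¹' (Ideal.span {t}).minimalPrimes := by
    rw [← IsLocalization.minimalPrimes_map P.primeCompl A, Ideal.map_span, Set.image_singleton]
  have ht0 : algebraMap B A t ≠ 0 := by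
    have h1 := IsLocalization.map_nonZeroDivisors_le P.primeCompl A
      (Submonoid.mem_map_of_mem (algebraMap B A) ht)
    exact nonZeroDivisors.ne_zero h1
  have htm : algebraMap B A t ∈ maximalIdeal A :=
    (IsLocalization.AtPrime.to_map_mem_maximal_iff A P t).2 htP
  refine isSNCElt_of_unique (algebraMap B A t) ht0 htm Q ?_ ?_
  · rw [hmin, Set.mem_preimage, hQu]
    exact hq
  · intro Q' hQ'
    rw [hmin, Set.mem_preimage] at hQ'
    have hQ'p : (Q'.under B).IsPrime := hQ'.1.1
    have hQ't : Q' ≠ ⊤ := by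
      rintro rfl
      exact hQ'p.ne_top (by simp [Ideal.under])
    have hle : Q'.under B ≤ P := by
      have h1 : Q' ≤ maximalIdeal A := le_maximalIdeal hQ't
      have h2 := Ideal.comap_mono (f := algebraMap B A) h1
      exact h2.trans (IsLocalization.AtPrime.under_maximalIdeal A P).le
    have h1 := huniq _ hQ' hle
    rw [← IsLocalization.map_under P.primeCompl A Q', h1]

/-- A closed subset of a Noetherian sober space consisting of closed points is finite. -/
theorem finite_of_isClosed {X : Type*} [TopologicalSpace X] [TopologicalSpace.NoetherianSpace X]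
    [QuasiSober X] (Z : Set X) (hZ : IsClosed Z) (h : ∀ z ∈ Z, IsClosed ({z} : Set X)) : Z.Finite := by
  obtain ⟨S, hS, hcl, hirr, hsup⟩ :=
    TopologicalSpace.NoetherianSpace.exists_finite_set_isClosed_irreducible hZ
  rw [hsup]
  refine hS.sUnion fun t ht => ?_
  obtain ⟨ζ, hζ⟩ := QuasiSober.sober (hirr t ht) (hcl t ht)
  have h3 : ζ ∈ Z := by
    rw [hsup]
    exact ⟨t, ht, hζ.mem⟩
  have h5 : t = {ζ} := by
    rw [← hζ.def, (h ζ h3).closure_eq]
  rw [h5]
  exact Set.finite_singleton ζ

/-- **Finiteness of the non strict-normal-crossings locus**, ring-theoretic form. -/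
theorem finite_not_snc {B : Type u} [CommRing B] [IsNoetherianRing B] (t : B) (ht : t ∈ nonZeroDivisors B)
    (hreg : ∀ P : PrimeSpectrum B, t ∈ P.asIdeal → IsRegularLocalRing (Localization.AtPrime P.asIdeal))
    (hdim : ∀ P : PrimeSpectrum B, P.asIdeal.height ≤ 2)
    (hopen : ∀ q ∈ (Ideal.span {t}).minimalPrimes, IsOpen (EGA4.regLocus (B ⧸ q))) :
    {P : PrimeSpectrum B | t ∈ P.asIdeal ∧
      ¬ IsSNCElt (Localization.AtPrime P.asIdeal) (algebraMap B _ t)}.Finite := by
  set M : Set (Ideal B) := (Ideal.span {t}).minimalPrimes with hM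
  have hMfin : M.Finite := Ideal.finite_minimalPrimes_of_isNoetherianRing B _
  have hMp : ∀ q ∈ M, q.IsPrime := fun q hq => hq.1.1
  have hMh : ∀ q ∈ M, 1 ≤ q.height := by
    intro q hq
    have := hMp q hq
    by_contra hlt
    have h0 : q.height = 0 := by
      have h1 : q.height < 1 := not_le.1 hlt
      exact Order.lt_one_iff.1 h1
    rw [Ideal.height_eq_zero_iff] at h0
    have htq : t ∈ q := hq.1.2 (Ideal.mem_span_singleton_self t)
    exact (notMem_nonZeroDivisors_of_mem_mem_minimalPrimes htq h0) ht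
  let Z1 : Set (PrimeSpectrum B) := ⋃ q ∈ M, ⋃ q' ∈ M, {P | q ≠ q' ∧ q ≤ P.asIdeal ∧ q' ≤ P.asIdeal}
  let Z2 : Set (PrimeSpectrum B) := ⋃ q ∈ M,
    (PrimeSpectrum.comap (Ideal.Quotient.mk q)) '' (EGA4.regLocus (B ⧸ q))ᶜ
  have hZ1 : IsClosed Z1 := by
    refine hMfin.isClosed_biUnion fun q _ => hMfin.isClosed_biUnion fun q' _ => ?_
    by_cases hqq : q = q'
    · have : {P : PrimeSpectrum B | q ≠ q' ∧ q ≤ P.asIdeal ∧ q' ≤ P.asIdeal} = ∅ := by
        ext P
        simp [hqq]
      rw [this]
      exact isClosed_empty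
    · have : {P : PrimeSpectrum B | q ≠ q' ∧ q ≤ P.asIdeal ∧ q' ≤ P.asIdeal} =
          PrimeSpectrum.zeroLocus (q : Set B) ∩ PrimeSpectrum.zeroLocus (q' : Set B) := by
        ext P
        simp only [ne_eq, hqq, not_false_eq_true, true_and, Set.mem_inter_iff, PrimeSpectrum.mem_zeroLocus,
          SetLike.coe_subset_coe]
        rfl
      rw [this]
      exact (PrimeSpectrum.isClosed_zeroLocus _).inter (PrimeSpectrum.isClosed_zeroLocus _)
  have hZ2 : IsClosed Z2 := by
    refine hMfin.isClosed_biUnion fun q hq => ?_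
    exact (PrimeSpectrum.isClosedEmbedding_comap_of_surjective _ _
      Ideal.Quotient.mk_surjective).isClosedMap _ (hopen q hq).isClosed_compl
  have hpt : ∀ z ∈ Z1 ∪ Z2, IsClosed ({z} : Set (PrimeSpectrum B)) := by
    have key : ∀ z : PrimeSpectrum B, (∃ q ∈ M, q < z.asIdeal) → IsClosed ({z} : Set (PrimeSpectrum B)) := by
      rintro z ⟨q, hq, hlt⟩
      have := hMp q hq
      rw [PrimeSpectrum.isClosed_singleton_iff_isMaximal]
      obtain ⟨m, hm, hzm⟩ := Ideal.exists_le_maximal z.asIdeal z.isPrime.ne_top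
      by_cases hzm' : z.asIdeal = m
      · rw [hzm']; exact hm
      · exfalso
        have h1 := Ideal.height_add_one_le_of_lt_of_isPrime hlt
        have hmp := hm.isPrime
        have h2 := Ideal.height_add_one_le_of_lt_of_isPrime (lt_of_le_of_ne hzm hzm')
        have h3 := hdim ⟨m, hmp⟩
        have h4 : (3 : ℕ∞) ≤ m.height := by
          calc (3 : ℕ∞) = 1 + 1 + 1 := by norm_num
            _ ≤ q.height + 1 + 1 := by gcongr; exact hMh q hq
            _ ≤ z.asIdeal.height + 1 := by gcongr
            _ ≤ _ := h2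
        exact absurd (h4.trans h3) (by norm_num)
    rintro z (hz | hz)
    · simp only [Z1, Set.mem_iUnion] at hz
      obtain ⟨q, hq, q', hq', hne, h1, h2⟩ := hz
      by_cases hqz : q = z.asIdeal
      · refine key z ⟨q', hq', lt_of_le_of_ne h2 fun h => hne (hqz.trans h.symm)⟩
      · exact key z ⟨q, hq, lt_of_le_of_ne h1 hqz⟩
    · simp only [Z2, Set.mem_iUnion] at hz
      obtain ⟨q, hq, p, hp, rfl⟩ := hz
      have hqp := hMp q hq
      refine key _ ⟨q, hq, ?_⟩
      have hle : q ≤ (PrimeSpectrum.comap (Ideal.Quotient.mk q) p).asIdeal := by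
        intro x hx
        change Ideal.Quotient.mk q x ∈ p.asIdeal
        rw [Ideal.Quotient.eq_zero_iff_mem.2 hx]
        exact Ideal.zero_mem _
      refine lt_of_le_of_ne hle ?_
      intro he
      apply hp
      have hp0 : p.asIdeal = ⊥ := by
        rw [eq_bot_iff]
        intro x hx
        obtain ⟨x, rfl⟩ := Ideal.Quotient.mk_surjective x
        have h1 : x ∈ (PrimeSpectrum.comap (Ideal.Quotient.mk q) p).asIdeal := hx
        rw [← he] at h1
        rw [Submodule.mem_bot, Ideal.Quotient.eq_zero_iff_mem]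
        exact h1
      change IsRegularLocalRing (Localization.AtPrime p.asIdeal)
      have hdq : IsDomain (B ⧸ q) := inferInstance
      have hf : IsField (Localization.AtPrime p.asIdeal) := by
        rw [IsLocalRing.isField_iff_maximalIdeal_eq, ← Localization.AtPrime.map_eq_maximalIdeal]
        exact (congrArg (Ideal.map (algebraMap (B ⧸ q) (Localization.AtPrime p.asIdeal))) hp0).trans Ideal.map_bot
      let _ := hf.toField
      infer_instance
  have hfin : (Z1 ∪ Z2).Finite := finite_of_isClosed _ (hZ1.union hZ2) hpt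
  refine hfin.subset ?_
  rintro P ⟨htP, hns⟩
  by_contra hPZ
  rw [Set.mem_union, not_or] at hPZ
  apply hns
  have hPreg := hreg P htP
  obtain ⟨q, hq, hqP⟩ := Ideal.exists_minimalPrimes_le (I := Ideal.span {t}) (J := P.asIdeal)
    ((Ideal.span_singleton_le_iff_mem _).2 htP)
  -- the point of `Spec (B/q)`
  have hrange : P ∈ Set.range (PrimeSpectrum.comap (Ideal.Quotient.mk q)) := by
    rw [range_comap_of_surjective _ _ Ideal.Quotient.mk_surjective, Ideal.mk_ker]
    exact hqP
  obtain ⟨p, rfl⟩ := hrange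
  refine isSNCElt_atPrime t ht _ htP q hq hqP ?_ p rfl ?_
  · intro q' hq' hq'P
    by_contra hne
    apply hPZ.1
    simp only [Z1, Set.mem_iUnion]
    exact ⟨q', hq', q, hq, hne, hq'P, hqP⟩
  · by_contra hp
    apply hPZ.2
    simp only [Z2, Set.mem_iUnion]
    exact ⟨q, hq, p, hp, rfl⟩

end Groth.Agent.Sga7.H592.SncAlg
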