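import Groth.Agent.Sga7.H592.SncAlg
import Groth.Agent.Models.RMOpen
import Mathlib.AlgebraicGeometry.Morphisms.Flat
import Mathlib.AlgebraicGeometry.Noetherian

/-!
# Finiteness of the non strict-normal-crossings points of a regular model

`finite_not_snc_of`: `p : X ⟶ Spec R` flat of finite type over a discrete valuation ring, all local rings of
`X` at points of the closed fibre regular and all local rings of dimension at most two.  Then the set of points
of the closed fibre at which the uniformizer is not in strict normal crossings form is finite.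
-/

set_option autoImplicit false
universe u

open CategoryTheory CategoryTheory.Limits AlgebraicGeometry IsLocalRing Groth.Agent.Sga7.H744.Defs

namespace Groth.Agent.Sga7.H592.SncFin

variable {R : Type u} [CommRing R] {X : Scheme.{u}} (p : X ⟶ Spec (CommRingCat.of R))

/-- The ring map `R → Γ(X, U)`. -/
noncomputable def secMap (U : X.Opens) : R →+* Γ(X, U) :=
  (p.appLE ⊤ U le_top).hom.comp (Scheme.ΓSpecIso (CommRingCat.of R)).inv.hom

theorem germ_secMap (U : X.Opens) (x : X) (hx : x ∈ U) (r : R) :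
    (X.presheaf.germ U x hx).hom (secMap p U r) = stalkElt p x r := by
  simp only [secMap, stalkElt, RingHom.comp_apply]
  have h1 : p.appLE ⊤ U le_top = p.appTop ≫ X.presheaf.map (homOfLE le_top : U ⟶ ⊤).op := by
    rw [Scheme.Hom.appLE]
    rfl
  rw [h1]
  have h2 := X.presheaf.germ_res (homOfLE (le_top : U ≤ ⊤)) x hx
  rw [← h2]
  rfl

theorem secMap_finiteType [LocallyOfFiniteType p] (U : X.Opens) (hU : IsAffineOpen U) :
    (secMap p U).FiniteType := by
  have h1 : (p.appLE ⊤ U le_top).hom.FiniteType :=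
    LocallyOfFiniteType.finiteType_appLE (f := p) (isAffineOpen_top _) hU le_top
  refine RingHom.FiniteType.comp h1 ?_
  exact RingHom.FiniteType.of_surjective _
    (ConcreteCategory.bijective_of_isIso (Scheme.ΓSpecIso (CommRingCat.of R)).inv).2

theorem secMap_flat [Flat p] (U : X.Opens) (hU : IsAffineOpen U) : (secMap p U).Flat := by
  have h1 : (p.appLE ⊤ U le_top).hom.Flat :=
    Flat.flat_appLE (f := p) (isAffineOpen_top _) hU le_top
  exact RingHom.Flat.comp (RingHom.Flat.of_bijective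
    (ConcreteCategory.bijective_of_isIso (Scheme.ΓSpecIso (CommRingCat.of R)).inv)) h1

/-- The local ring of `X` at a point of an affine open as a localization, over `R`. -/
theorem exists_stalkEquiv (U : X.Opens) (hU : IsAffineOpen U) (x : X) (hx : x ∈ U) :
    ∃ e : Localization.AtPrime (hU.primeIdealOf ⟨x, hx⟩).asIdeal ≃+* X.presheaf.stalk x,
      ∀ r : R, e (algebraMap Γ(X, U) _ (secMap p U r)) = stalkElt p x r := by
  let _ := X.presheaf.algebra_section_stalk ⟨x, hx⟩
  have := hU.isLocalization_stalk ⟨x, hx⟩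
  refine ⟨(IsLocalization.algEquiv (hU.primeIdealOf ⟨x, hx⟩).asIdeal.primeCompl
    (Localization.AtPrime (hU.primeIdealOf ⟨x, hx⟩).asIdeal) (X.presheaf.stalk x)).toRingEquiv, fun r => ?_⟩
  rw [← germ_secMap p U x hx r]
  exact (IsLocalization.algEquiv (hU.primeIdealOf ⟨x, hx⟩).asIdeal.primeCompl
    (Localization.AtPrime (hU.primeIdealOf ⟨x, hx⟩).asIdeal) (X.presheaf.stalk x)).commutes _

/-- The image of `r` in the local ring at `x` is a non-unit iff `r` vanishes at `p x`. -/
theorem stalkElt_mem_iff (x : X) (r : R) :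
    stalkElt p x r ∈ maximalIdeal (X.presheaf.stalk x) ↔ r ∈ (p x).asIdeal := by
  obtain ⟨ρ, hρ⟩ : ∃ ρ : CommRingCat.of R ⟶ X.presheaf.stalk x, Spec.map ρ = X.fromSpecStalk x ≫ p :=
    ⟨Spec.preimage (X.fromSpecStalk x ≫ p), Spec.map_preimage _⟩
  have h1 : ρ.hom = stalkElt p x := by
    have h2 : ρ = (Scheme.ΓSpecIso (CommRingCat.of R)).inv ≫ p.appTop ≫ X.presheaf.germ ⊤ x trivial := by
      apply Spec.map_injective
      rw [hρ]
      simp only [Spec.map_comp]
      have h3 : Spec.map (X.presheaf.germ ⊤ x trivial) ≫ Spec.map p.appTop =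
          X.fromSpecStalk x ≫ p ≫ (Spec (CommRingCat.of R)).toSpecΓ := by
        rw [← Scheme.fromSpecStalk_toSpecΓ, Category.assoc, Scheme.toSpecΓ_naturality]
      rw [h3, Category.assoc, Category.assoc, ← SpecMap_ΓSpecIso_hom, ← Spec.map_comp,
        Iso.inv_hom_id, Spec.map_id, Category.comp_id]
    rw [h2]
    rfl
  have h4 : (Spec.map ρ) (closedPoint (X.presheaf.stalk x)) = p x := by
    rw [hρ, Scheme.Hom.comp_apply, Scheme.fromSpecStalk_closedPoint]
  rw [← h4, ← h1]
  rfl

/-- Finiteness on an affine open. -/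
theorem finite_not_snc_affine [IsDomain R] [IsDiscreteValuationRing R] [LocallyOfFiniteType p] [Flat p]
    (hreg : ∀ x : X, p x = closedPoint R → IsRegularLocalRing (X.presheaf.stalk x))
    (hdim : ∀ x : X, ringKrullDim (X.presheaf.stalk x) ≤ 2) (ϖ : R) (hϖ : Irreducible ϖ)
    (U : X.Opens) (hU : IsAffineOpen U) :
    {x : X | x ∈ U ∧ p x = closedPoint R ∧ ¬ IsSNCElt (X.presheaf.stalk x) (stalkElt p x ϖ)}.Finite := by
  have hft := secMap_finiteType p U hU
  have hfl := secMap_flat p U hU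
  let _ : Algebra R Γ(X, U) := (secMap p U).toAlgebra
  have hft' : Algebra.FiniteType R Γ(X, U) := hft
  have hfl' : Module.Flat R Γ(X, U) := hfl
  have hN : IsNoetherianRing Γ(X, U) := Algebra.FiniteType.isNoetherianRing R Γ(X, U)
  set t : Γ(X, U) := secMap p U ϖ with ht
  have htreg : t ∈ nonZeroDivisors Γ(X, U) := by
    have h1 : IsSMulRegular R ϖ := by
      rw [isSMulRegular_iff_right_eq_zero_of_smul]
      intro y hy
      exact (mul_eq_zero.mp hy).resolve_left hϖ.ne_zero
    have h2 : IsSMulRegular Γ(X, U) (algebraMap R Γ(X, U) ϖ) := h1.of_flat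
    rw [isSMulRegular_iff_right_eq_zero_of_smul] at h2
    rw [mem_nonZeroDivisors_iff_right]
    intro y hy
    refine h2 y ?_
    rw [smul_eq_mul, mul_comm]
    exact hy
  have hmax : maximalIdeal R = Ideal.span {ϖ} := hϖ.maximalIdeal_eq
  have hcl : ∀ (x : X) (hx : x ∈ U), p x = closedPoint R ↔ t ∈ (hU.primeIdealOf ⟨x, hx⟩).asIdeal := by
    intro x hx
    obtain ⟨e, he⟩ := exists_stalkEquiv p U hU x hx
    rw [← IsLocalization.AtPrime.to_map_mem_maximal_iff
      (Localization.AtPrime (hU.primeIdealOf ⟨x, hx⟩).asIdeal) (hU.primeIdealOf ⟨x, hx⟩).asIdeal t]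
    have h1 : algebraMap Γ(X, U) (Localization.AtPrime (hU.primeIdealOf ⟨x, hx⟩).asIdeal) t ∈ maximalIdeal _ ↔
        stalkElt p x ϖ ∈ maximalIdeal (X.presheaf.stalk x) := by
      rw [mem_maximalIdeal, mem_maximalIdeal, mem_nonunits_iff, mem_nonunits_iff, ← he ϖ, MulEquiv.isUnit_map]
    rw [h1, stalkElt_mem_iff]
    constructor
    · intro h
      rw [h]
      exact hϖ.not_isUnit
    · intro h
      apply PrimeSpectrum.ext
      have h2 : maximalIdeal R ≤ (p x).asIdeal := by
        rw [hmax, Ideal.span_singleton_le_iff_mem]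
        exact h
      exact ((maximalIdeal.isMaximal R).eq_of_le (p x).isPrime.ne_top h2).symm
  have key := SncAlg.finite_not_snc t htreg (fun P htP => by
    have h1 : hU.fromSpec P ∈ U := by
      have := hU.range_fromSpec
      have h2 : hU.fromSpec P ∈ Set.range hU.fromSpec := ⟨P, rfl⟩
      rw [this] at h2
      exact h2
    have h2 : hU.primeIdealOf ⟨hU.fromSpec P, h1⟩ = P := by
      apply hU.fromSpec.isOpenEmbedding.injective
      exact hU.fromSpec_primeIdealOf ⟨_, h1⟩
    obtain ⟨e, -⟩ := exists_stalkEquiv p U hU (hU.fromSpec P) h1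
    have h3 := hreg _ ((hcl _ h1).2 (by rw [h2]; exact htP))
    have h4 := IsRegularLocalRing.of_ringEquiv e.symm
    rw [h2] at h4
    exact h4)
    (fun P => by
      have h1 : hU.fromSpec P ∈ U := by
        have := hU.range_fromSpec
        have h2 : hU.fromSpec P ∈ Set.range hU.fromSpec := ⟨P, rfl⟩
        rw [this] at h2
        exact h2
      have h2 : hU.primeIdealOf ⟨hU.fromSpec P, h1⟩ = P := by
        apply hU.fromSpec.isOpenEmbedding.injective
        exact hU.fromSpec_primeIdealOf ⟨_, h1⟩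
      obtain ⟨e, -⟩ := exists_stalkEquiv p U hU (hU.fromSpec P) h1
      have h3 := hdim (hU.fromSpec P)
      rw [← ringKrullDim_eq_of_ringEquiv e, IsLocalization.AtPrime.ringKrullDim_eq_height
        (hU.primeIdealOf ⟨hU.fromSpec P, h1⟩).asIdeal] at h3
      rw [h2] at h3
      exact WithBot.coe_le_coe.mp h3)
    (fun q _ => by
      have hq : Algebra.FiniteType R (Γ(X, U) ⧸ q) :=
        Algebra.FiniteType.of_surjective (Ideal.Quotient.mkₐ R q) (Ideal.Quotient.mkₐ_surjective R q)
      exact Groth.Agent.Models.RMOpen.isJ2_dvr R _ hq)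
  refine (key.image hU.fromSpec).subset ?_
  rintro x ⟨hxU, hpx, hns⟩
  refine ⟨hU.primeIdealOf ⟨x, hxU⟩, ⟨(hcl x hxU).1 hpx, fun h => hns ?_⟩, hU.fromSpec_primeIdealOf ⟨x, hxU⟩⟩
  obtain ⟨e, he⟩ := exists_stalkEquiv p U hU x hxU
  rw [← he ϖ]
  exact SncAlg.isSNCElt_of_ringEquiv e h

/-- **Finiteness of the non strict-normal-crossings points.** -/
theorem finite_not_snc_of [IsDomain R] [IsDiscreteValuationRing R] [LocallyOfFiniteType p] [QuasiCompact p]
    [Flat p] (hreg : ∀ x : X, p x = closedPoint R → IsRegularLocalRing (X.presheaf.stalk x))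
    (hdim : ∀ x : X, ringKrullDim (X.presheaf.stalk x) ≤ 2) (ϖ : R) (hϖ : Irreducible ϖ) :
    {x : X | p x = closedPoint R ∧ ¬ IsSNCElt (X.presheaf.stalk x) (stalkElt p x ϖ)}.Finite := by
  have hc : CompactSpace X := QuasiCompact.compactSpace_of_compactSpace p
  have h1 : ∀ x : X, ∃ U : X.Opens, IsAffineOpen U ∧ x ∈ U := by
    intro x
    obtain ⟨_, ⟨U, hU, rfl⟩, hxU, -⟩ :=
      X.isBasis_affineOpens.exists_subset_of_mem_open (Set.mem_univ x) isOpen_univ
    exact ⟨U, hU, hxU⟩
  choose U hU hxU using h1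
  obtain ⟨s, hs⟩ := CompactSpace.elim_nhds_subcover (fun x => (U x : Set X)) (fun x => (U x).isOpen.mem_nhds (hxU x))
  have h2 : {x : X | p x = closedPoint R ∧ ¬ IsSNCElt (X.presheaf.stalk x) (stalkElt p x ϖ)} ⊆
      ⋃ y ∈ s, {x : X | x ∈ U y ∧ p x = closedPoint R ∧
        ¬ IsSNCElt (X.presheaf.stalk x) (stalkElt p x ϖ)} := by
    rintro x ⟨hpx, hx⟩
    have h3 : x ∈ ⋃ y ∈ s, (U y : Set X) := by rw [hs]; trivial
    simp only [Set.mem_iUnion] at h3 ⊢
    obtain ⟨y, hy, hxy⟩ := h3
    exact ⟨y, hy, hxy, hpx, hx⟩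
  refine Set.Finite.subset ?_ h2
  exact s.finite_toSet.biUnion fun y _ => finite_not_snc_affine p hreg hdim ϖ hϖ (U y) (hU y)

end Groth.Agent.Sga7.H592.SncFin
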